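import Groth.Agent.Lefpen.H725.Frame
import Groth.Agent.Lefpen.H411.Cartier

/-!
# Retractions compatible with commuting derivations; `dlog` with a stable set
-/

set_option autoImplicit false
open Groth.Agent.Lefpen.H725.Frame
open Groth.Agent.Ega41

namespace Groth.Agent.Lefpen.H576.Rho

section One

variable {K : Type*} [Field K] (p : ℕ) [hp : Fact p.Prime] [CharP K p] (D : Derivation ℤ K K) (z : K)

include hp in
theorem fac_ne (k : ℕ) (hk : k < p) : (k.factorial : K) ≠ 0 := by
  intro h
  rw [CharP.cast_eq_zero_iff K p] at h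
  exact absurd ((hp.out.dvd_factorial).1 h) (by omega)

theorem iter_zero (n : ℕ) : D^[n] 0 = 0 := by
  have := NagIter.iterate_smul (R := ℤ) D n 0 (0 : K)
  rwa [zero_smul, zero_smul] at this

theorem iter_eq_zero (hD : ∀ x, D^[p] x = 0) (n : ℕ) (hn : p ≤ n) (x : K) : D^[n] x = 0 := by
  obtain ⟨m, rfl⟩ := Nat.exists_eq_add_of_le hn
  rw [add_comm, Function.iterate_add_apply, hD, iter_zero]

/-- the truncated exponential coefficients -/
noncomputable def ex (k : ℕ) : K := z ^ k / (k.factorial : K)

theorem D_ex (hz : D z = 1) (k : ℕ) (hk : k + 1 < p) : D (ex z (k + 1)) = ex z k := by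
  have h1 := fac_ne (K := K) p (k + 1) hk
  unfold ex
  rw [div_eq_mul_inv, Derivation.leibniz, Derivation.leibniz_inv, Derivation.map_natCast,
      Derivation.leibniz_pow, hz]
  simp only [smul_eq_mul, mul_zero, zero_add, nsmul_eq_mul, mul_one, smul_zero, Nat.add_sub_cancel]
  have h2 := fac_ne (K := K) p k (by omega)
  rw [Nat.factorial_succ] at h1 ⊢
  push_cast at h1 ⊢
  have h3 : ((k : K) + 1) ≠ 0 := left_ne_zero_of_mul h1
  field_simp

theorem D_ex_zero : D (ex z 0) = 0 := by
  simp [ex]

theorem D_ex_of (hz : D z = 0) (k : ℕ) : D (ex z k) = 0 := by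
  unfold ex
  rw [div_eq_mul_inv, Derivation.leibniz, Derivation.leibniz_inv, Derivation.map_natCast,
      Derivation.leibniz_pow, hz]
  simp

theorem ex_neg (k : ℕ) : ex (-z) k = (-1) ^ k * ex z k := by
  unfold ex
  rw [neg_pow, mul_div_assoc]

/-- sum of products over an antidiagonal -/
theorem ex_antidiagonal (n : ℕ) (hn : 1 ≤ n) (hnp : n < p) :
    ∑ x ∈ Finset.antidiagonal n, ex z x.1 * ex (-z) x.2 = 0 := by
  have h1 : ((z + -z) ^ n : K) = 0 := by
    rw [add_neg_cancel, zero_pow (by omega)]
  rw [(Commute.all z (-z)).add_pow'] at h1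
  have h2 : ∀ x ∈ Finset.antidiagonal n, ex z x.1 * ex (-z) x.2 =
      (n.factorial : K)⁻¹ * (n.choose x.1 • (z ^ x.1 * (-z) ^ x.2)) := by
    intro x hx
    rw [Finset.mem_antidiagonal] at hx
    unfold ex
    have h3 := fac_ne (K := K) p x.1 (by omega)
    have h4 := fac_ne (K := K) p x.2 (by omega)
    have h5 := fac_ne (K := K) p n hnp
    have h6 : (n.choose x.1 : K) * ((x.1.factorial : K) * (x.2.factorial : K)) = (n.factorial : K) := by
      have h7 := Nat.choose_mul_factorial_mul_factorial (n := n) (k := x.1) (by omega)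
      rw [show n - x.1 = x.2 by omega] at h7
      rw [← h7]
      push_cast
      ring
    rw [nsmul_eq_mul]
    field_simp
    rw [← h6]
    ring
  rw [Finset.sum_congr rfl h2, ← Finset.mul_sum, h1, mul_zero]

/-- the projector on the constants of `D` -/
noncomputable def P (y : K) : K := ∑ j ∈ Finset.range p, ex (-z) j * D^[j] y

theorem P_add (x y : K) : P p D z (x + y) = P p D z x + P p D z y := by
  unfold P
  rw [← Finset.sum_add_distrib]
  exact Finset.sum_congr rfl fun j _ => by rw [NagIter.iterate_add, mul_add]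

theorem P_zero : P p D z 0 = 0 := by
  unfold P
  exact Finset.sum_eq_zero fun j _ => by rw [iter_zero, mul_zero]

theorem D_P (hz : D z = 1) (hD : ∀ x, D^[p] x = 0) (y : K) : D (P p D z y) = 0 := by
  have key : ∀ m, m < p → D (∑ j ∈ Finset.range (m + 1), ex (-z) j * D^[j] y) = ex (-z) m * D^[m + 1] y := by
    intro m
    induction m with
    | zero =>
      intro _
      simp [ex]
    | succ m ih =>
      intro hm
      rw [Finset.sum_range_succ, map_add, ih (by omega), Derivation.leibniz]
      have h1 : D (ex (-z) (m + 1)) = - ex (-z) m := by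
        rw [ex_neg, Derivation.leibniz, D_ex p D z hz m hm, ex_neg, Derivation.leibniz_pow]
        simp only [Derivation.map_neg, Derivation.map_one_eq_zero, smul_eq_mul, mul_zero, neg_zero, smul_zero,
          add_zero]
        ring
      rw [h1, ← Function.iterate_succ_apply' (⇑D)]
      simp only [smul_eq_mul]
      ring
  have h0 := hp.out.one_le
  have := key (p - 1) (by omega)
  rw [Nat.sub_add_cancel h0, hD, mul_zero] at this
  exact this

theorem P_comm (D' : Derivation ℤ K K) (hc : ∀ x, D' (D x) = D (D' x)) (hz : D' z = 0) (y : K) :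
    D' (P p D z y) = P p D z (D' y) := by
  unfold P
  rw [map_sum]
  refine Finset.sum_congr rfl fun j _ => ?_
  have h1 : ∀ n (x : K), D' (D^[n] x) = D^[n] (D' x) := by
    intro n
    induction n with
    | zero => intro x; rfl
    | succ n ih => intro x; rw [Function.iterate_succ_apply, ih, hc, ← Function.iterate_succ_apply]
  rw [Derivation.leibniz, D_ex_of D' (-z) (by rw [map_neg, hz, neg_zero]), h1]
  simp

/-- Taylor's formula. -/
theorem taylor (hD : ∀ x, D^[p] x = 0) (c : K) :
    ∑ k ∈ Finset.range p, ex z k * P p D z (D^[k] c) = c := by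
  have h1 : ∑ k ∈ Finset.range p, ex z k * P p D z (D^[k] c) =
      ∑ x ∈ Finset.range p ×ˢ Finset.range p, ex z x.1 * ex (-z) x.2 * D^[x.1 + x.2] c := by
    rw [Finset.sum_product]
    refine Finset.sum_congr rfl fun k _ => ?_
    unfold P
    rw [Finset.mul_sum]
    refine Finset.sum_congr rfl fun j _ => ?_
    rw [← Function.iterate_add_apply, add_comm j k, mul_assoc]
  rw [h1, ← Finset.sum_fiberwise_of_maps_to (s := Finset.range p ×ˢ Finset.range p)
    (t := Finset.range (2 * p)) (g := fun x => x.1 + x.2) (by
      intro x hx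
      rw [Finset.mem_product, Finset.mem_range, Finset.mem_range] at hx
      rw [Finset.mem_range]
      omega)]
  have h2 : ∀ n ∈ Finset.range (2 * p),
      ∑ x ∈ Finset.range p ×ˢ Finset.range p with x.1 + x.2 = n, ex z x.1 * ex (-z) x.2 * D^[x.1 + x.2] c =
        if n = 0 then c else 0 := by
    intro n _
    by_cases hnp : n < p
    · have h3 : (Finset.range p ×ˢ Finset.range p).filter (fun x => x.1 + x.2 = n) = Finset.antidiagonal n := by
        ext x
        simp only [Finset.mem_filter, Finset.mem_product, Finset.mem_range, Finset.mem_antidiagonal]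
        constructor
        · exact fun h => h.2
        · intro h
          exact ⟨⟨by omega, by omega⟩, h⟩
      rw [h3]
      have h4 : ∑ x ∈ Finset.antidiagonal n, ex z x.1 * ex (-z) x.2 * D^[x.1 + x.2] c =
          (∑ x ∈ Finset.antidiagonal n, ex z x.1 * ex (-z) x.2) * D^[n] c := by
        rw [Finset.sum_mul]
        refine Finset.sum_congr rfl fun x hx => ?_
        rw [Finset.mem_antidiagonal] at hx
        rw [hx]
      rw [h4]
      split_ifs with h0
      · subst h0
        simp [ex]
      · rw [ex_antidiagonal p z n (by omega) hnp, zero_mul]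
    · have hp0 := hp.out.pos
      rw [if_neg (by omega)]
      refine Finset.sum_eq_zero fun x hx => ?_
      rw [Finset.mem_filter] at hx
      rw [hx.2, iter_eq_zero p D hD n (by omega), mul_zero]
  rw [Finset.sum_congr rfl h2, Finset.sum_ite_eq' (Finset.range (2 * p)) 0]
  rw [if_pos (Finset.mem_range.2 (by have := hp.out.pos; omega))]

end One

/-- a retraction `ρ : Q → K` compatible with the commuting derivations -/
theorem exists_rho {Q K : Type*} [Field Q] [Field K] (p : ℕ) [Fact p.Prime] [CharP K p] {C : Type*} [Fintype C]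
    [DecidableEq C] (ι : K →+* Q) (F : Frame K C) (T : C → Derivation ℤ Q Q)
    (hT : ∀ e c, T e (ι c) = ι (F.D e c)) (hcomm : ∀ e e' x, T e (T e' x) = T e' (T e x))
    (hTp : ∀ e x, (T e)^[p] x = 0) :
    ∃ ρ : Q →+ K, (∀ e x, ρ (T e x) = F.D e (ρ x)) ∧ ∀ c, ρ (ι c) = c := by
  classical
  have hp : p.Prime := Fact.out
  have hz : ∀ e, F.D e (F.z e) = 1 := fun e => by rw [F.dual, if_pos rfl]
  have hz' : ∀ e e', e ≠ e' → F.D e (F.z e') = 0 := fun e e' h => by rw [F.dual, if_neg h]
  have hDp : ∀ e x, (F.D e)^[p] x = 0 := fun e x => H411.Cartier.iter_p F p e x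
  have hDc := H411.Cartier.comm F
  have key : ∀ S : Finset C, ∃ ρ : Q →+ K, (∀ e ∈ S, ∀ x, ρ (T e x) = F.D e (ρ x)) ∧ ∀ c, ρ (ι c) = c := by
    intro S
    induction S using Finset.induction_on with
    | empty =>
      letI := ι.toAlgebra
      obtain ⟨g, hg⟩ := LinearMap.exists_leftInverse_of_injective (Algebra.linearMap K Q)
        (LinearMap.ker_eq_bot.2 ι.injective)
      refine ⟨g.toAddMonoidHom, by simp, fun c => ?_⟩
      exact DFunLike.congr_fun hg c
    | insert e S he ih =>
      obtain ⟨ρ, hρ, hρι⟩ := ih
      let Pe : K → K := P p (F.D e) (F.z e)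
      have hiter_add : ∀ n (x y : Q), (T e)^[n] (x + y) = (T e)^[n] x + (T e)^[n] y :=
        fun n x y => NagIter.iterate_add _ n x y
      have hiter_zero : ∀ n, (T e)^[n] 0 = 0 := fun n => iter_zero (T e) n
      let ρ' : Q →+ K :=
        { toFun := fun x => ∑ k ∈ Finset.range p, ex (F.z e) k * Pe (ρ ((T e)^[k] x))
          map_zero' := by
            refine Finset.sum_eq_zero fun k _ => ?_
            rw [hiter_zero, map_zero]
            change ex (F.z e) k * P p (F.D e) (F.z e) 0 = 0
            rw [P_zero, mul_zero]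
          map_add' := by
            intro x y
            rw [← Finset.sum_add_distrib]
            refine Finset.sum_congr rfl fun k _ => ?_
            rw [hiter_add, map_add]
            change ex (F.z e) k * P p (F.D e) (F.z e) _ = _
            rw [P_add, mul_add] }
      have hρ' : ∀ x, ρ' x = ∑ k ∈ Finset.range p, ex (F.z e) k * P p (F.D e) (F.z e) (ρ ((T e)^[k] x)) :=
        fun x => rfl
      refine ⟨ρ', ?_, ?_⟩
      · intro e' he' x
        rcases Finset.mem_insert.1 he' with rfl | he'
        · rw [hρ', hρ', map_sum]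
          obtain ⟨q, hq⟩ := Nat.exists_eq_succ_of_ne_zero hp.ne_zero
          have h1 : ∀ k, k ∈ Finset.range p →
              F.D e' (ex (F.z e') k * P p (F.D e') (F.z e') (ρ ((T e')^[k] x))) =
                F.D e' (ex (F.z e') k) * P p (F.D e') (F.z e') (ρ ((T e')^[k] x)) := by
            intro k _
            rw [Derivation.leibniz, D_P p _ _ (hz e') (hDp e'), smul_zero, zero_add, smul_eq_mul, mul_comm]
          rw [Finset.sum_congr rfl h1]
          have h2 : Finset.range p = Finset.range (q + 1) := by rw [hq]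
          rw [h2, Finset.sum_range_succ, Finset.sum_range_succ' _ q]
          have h3 : (T e')^[q] (T e' x) = 0 := by
            rw [← Function.iterate_succ_apply, ← hq]
            exact hTp e' x
          rw [h3, map_zero, P_zero, mul_zero, add_zero, D_ex_zero, zero_mul, add_zero]
          refine Finset.sum_congr rfl fun k hk => ?_
          rw [Finset.mem_range] at hk
          rw [D_ex p (F.D e') (F.z e') (hz e') k (by omega), ← Function.iterate_succ_apply]
        · have hne : e' ≠ e := fun h => he (h ▸ he')
          rw [hρ', hρ', map_sum]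
          refine Finset.sum_congr rfl fun k _ => ?_
          have h1 : ∀ n (x : Q), T e' ((T e)^[n] x) = (T e)^[n] (T e' x) := by
            intro n
            induction n with
            | zero => intro x; rfl
            | succ n ih =>
              intro x
              rw [Function.iterate_succ_apply, ih, hcomm e' e, ← Function.iterate_succ_apply]
          rw [Derivation.leibniz, D_ex_of (F.D e') (F.z e) (hz' e' e hne), smul_zero, add_zero, smul_eq_mul,
            P_comm p (F.D e) (F.z e) (F.D e') (hDc e' e) (hz' e' e hne), ← hρ e' he', h1]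
      · intro c
        rw [hρ']
        have h1 : ∀ n (c : K), (T e)^[n] (ι c) = ι ((F.D e)^[n] c) := by
          intro n
          induction n with
          | zero => intro c; rfl
          | succ n ih =>
            intro c
            rw [Function.iterate_succ_apply, hT, ih, ← Function.iterate_succ_apply]
        have h2 : ∀ k ∈ Finset.range p, ex (F.z e) k * P p (F.D e) (F.z e) (ρ ((T e)^[k] (ι c))) =
            ex (F.z e) k * P p (F.D e) (F.z e) ((F.D e)^[k] c) := by
          intro k _
          rw [h1, hρι]
        rw [Finset.sum_congr rfl h2]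
        exact taylor p (F.D e) (F.z e) (hDp e) c
  obtain ⟨ρ, hρ, hρι⟩ := key Finset.univ
  exact ⟨ρ, fun e x => hρ e (Finset.mem_univ e) x, hρι⟩

/-- dlog with a stable set: variant of H411.Cartier.exists_dlog producing `f` in a set `W` stable under the operators -/
theorem exists_dlog' {Q : Type*} [Field Q] {ι : Type*} [DecidableEq ι] [Fintype ι] (F : Frame Q ι) (p : ℕ)
    [Fact p.Prime] [CharP Q p] (a : ι → Q)
    (h : ∀ i j, F.D i (a j) = F.D j (a i)) (hC : ∀ i, (F.D i)^[p - 1] (a i) = - (a i) ^ p)
    (W : Set Q) (h1 : (1 : Q) ∈ W) (hW : ∀ i x, x ∈ W → F.D i x - a i * x ∈ W) :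
    ∃ f : Q, f ≠ 0 ∧ f ∈ W ∧ ∀ i, F.D i f = a i * f := by
  classical
  have hp : p.Prime := Fact.out
  let T : ι → Module.End ℤ Q := fun i => (F.D i : Q →ₗ[ℤ] Q) + LinearMap.mulLeft ℤ (- a i)
  have hT : ∀ i x, T i x = F.D i x + (- a i) * x := fun i x => rfl
  have hTc : ∀ i j x, T i (T j x) = T j (T i x) := by
    intro i j x
    simp only [hT, map_add, Derivation.leibniz, map_neg, smul_eq_mul, H411.Cartier.comm F i j x, h i j]
    ring
  have hneg : ∀ i, (F.D i)^[p - 1] (- a i) = - (F.D i)^[p - 1] (a i) := by
    intro i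
    have := NagIter.iterate_smul (R := ℤ) (F.D i) (p - 1) (-1) (a i)
    rw [neg_one_smul, neg_one_smul] at this
    exact this
  have hnegp : ∀ x : Q, (- x) ^ p = - x ^ p := by
    intro x
    haveI : ExpChar Q p := ExpChar.prime hp
    have := map_neg (frobenius Q p) x
    simpa [frobenius_def] using this
  have hTp : ∀ i x, (T i ^ p) x = 0 := by
    intro i x
    have h1 := H411.Jacobson.jacobson (F.D i) (- a i) p x
    rw [H411.Cartier.iter_p, hneg, hC, hnegp, zero_add] at h1
    have h2 : ∀ n (x : Q), (T i ^ n) x = (fun y => F.D i y + (- a i) * y)^[n] x := by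
      intro n
      induction n with
      | zero => intro x; rfl
      | succ n ih => intro x; rw [pow_succ, Module.End.mul_apply, ih, Function.iterate_succ_apply]; rfl
    rw [h2, h1]
    ring
  have hTcn : ∀ i j n x, T i ((T j ^ n) x) = (T j ^ n) (T i x) := by
    intro i j n
    induction n with
    | zero => intro x; rfl
    | succ n ih => intro x; rw [pow_succ, Module.End.mul_apply, Module.End.mul_apply, ih, hTc]
  have hTW : ∀ j n x, x ∈ W → (T j ^ n) x ∈ W := by
    intro j n
    induction n with
    | zero => intro x hx; exact hx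
    | succ n ih =>
      intro x hx
      rw [pow_succ, Module.End.mul_apply]
      refine ih _ ?_
      rw [hT, neg_mul, ← sub_eq_add_neg]
      exact hW j x hx
  have key : ∀ S : Finset ι, ∃ f : Q, f ≠ 0 ∧ f ∈ W ∧ ∀ i ∈ S, T i f = 0 := by
    intro S
    induction S using Finset.induction_on with
    | empty => exact ⟨1, one_ne_zero, h1, by simp⟩
    | insert j S hj ih =>
      obtain ⟨f, hf, hfW, hfS⟩ := ih
      have hex : ∃ n, (T j ^ n) f = 0 := ⟨p, hTp j f⟩
      obtain ⟨m, hm⟩ := Nat.exists_eq_succ_of_ne_zero (n := Nat.find hex) (by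
        intro h0
        have := Nat.find_spec hex
        rw [h0, pow_zero] at this
        exact hf this)
      refine ⟨(T j ^ m) f, Nat.find_min hex (by omega), hTW j m f hfW, ?_⟩
      intro i hi
      rcases Finset.mem_insert.1 hi with rfl | hi
      · rw [← Module.End.mul_apply, ← pow_succ', ← Nat.succ_eq_add_one, ← hm]
        exact Nat.find_spec hex
      · rw [hTcn, hfS i hi, map_zero]
  obtain ⟨f, hf, hfW, hfS⟩ := key Finset.univ
  refine ⟨f, hf, hfW, fun i => ?_⟩
  have := hfS i (Finset.mem_univ i)
  rw [hT, neg_mul, ← sub_eq_add_neg, sub_eq_zero] at this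
  exact this

end Groth.Agent.Lefpen.H576.Rho
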